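import Mathlib
import Cfsg.Agent.Lib.DerCls.Base
import Cfsg.Agent.Lib.Perm.MultiTransField
import Cfsg.Agent.Lib.Core.Fitting
import Cfsg.Agent.Lib.Frob.Kernel
import Cfsg.Agent.Lib.FT.OddOrder

/-!
Extremely primitive groups of affine type: the point stabiliser as a linear group.
-/

set_option autoImplicit false

namespace CfsgLib.XPrim

open MulAction Subgroup Cfsg CfsgLib CfsgLib.Perm
open scoped Pointwise

section Prim

variable {H : Type*} [Group H] {Δ : Type*} [MulAction H Δ] [FaithfulSMul H Δ] [IsPreprimitive H Δ]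

include Δ in
theorem centralizer_le_of_comm (A : Subgroup H) [A.Normal] (hA : A ≠ ⊥) [IsMulCommutative A] :
    centralizer (A : Set H) ≤ A := by
  intro c hc
  have := Recog.nontrivial_of_stabilizer_ne_bot (Ω := Δ) hA
  obtain ⟨x⟩ : Nonempty Δ := inferInstance
  obtain ⟨a, ha, h⟩ := DerCls.transitive_of_normal A hA x (c • x)
  have : a⁻¹ * c = 1 := eq_one_of_commute_of_fix (a := x) (fun b => by
    obtain ⟨m, hm, h⟩ := DerCls.transitive_of_normal A hA x b
    refine ⟨m, Commute.mul_left ?_ (mem_centralizer_iff.1 hc m hm).symm, h⟩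
    exact setLike_mul_comm (s := A) (inv_mem ha) hm) (by rw [mul_smul, ← h, inv_smul_smul])
  rwa [← inv_mul_eq_one.1 this]

include Δ in
theorem prime_of_center [Finite H] (h : center H ≠ ⊥) : (Nat.card H).Prime := by
  have h1 := centralizer_le_of_comm (Δ := Δ) (center H) h
  have hc : ∀ a b : H, a * b = b * a := fun a b =>
    mem_center_iff.1 (h1 fun z hz => (mem_center_iff.1 hz b).symm) a
  have hnt : Nat.card H ≠ 1 := fun e => h (by
    have := (Nat.card_eq_one_iff_unique.1 e).1
    exact Subsingleton.elim _ _)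
  obtain ⟨q, hq, hqd⟩ := Nat.exists_prime_and_dvd hnt
  have := Fact.mk hq
  obtain ⟨x, hx⟩ := exists_prime_orderOf_dvd_card' q hqd
  have : (zpowers x).Normal := ⟨fun n hn g => by rwa [hc g n, mul_inv_cancel_right]⟩
  have h2 := centralizer_le_of_comm (Δ := Δ) (zpowers x)
    (zpowers_ne_bot.2 (DerCls.ne_one_of_orderOf hq hx))
  have h3 : zpowers x = ⊤ := eq_top_iff.2 fun g _ => h2 fun z _ => hc z g
  rw [← card_top, ← h3, Nat.card_zpowers, hx]
  exact hq

include Δ in
theorem fitting [Finite H] (h : fittingSubgroup H ≠ ⊥) :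
    (∃ r : ℕ, r.Prime ∧ IsElementaryAbelian r (fittingSubgroup H)) ∧
      centralizer (fittingSubgroup H : Set H) ≤ fittingSubgroup H := by
  have := Core.fittingSubgroup_normal H
  obtain ⟨A, hA, hA0, hAF, hmin⟩ := Core.exists_minimal_normal_le h
  have := Core.isSolvable_fittingSubgroup H
  have : Group.IsSolvable A := Group.isSolvable_of_isSolvable_injective (inclusion_injective hAF)
  obtain ⟨r, hr, he⟩ := Core.isElementaryAbelian_of_minimal_normal hA0 hmin
  have := he.1
  have h1 := centralizer_le_of_comm (Δ := Δ) A hA0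
  have := Core.isNilpotent_fittingSubgroup H
  have h2 := Core.inf_centralizer_ne_bot_of_isNilpotent hAF le_normalizer_of_normal hA0
  have h3 := (hmin _ inferInstance inf_le_left).resolve_left h2
  have h4 : A = fittingSubgroup H := le_antisymm hAF
    ((le_centralizer_iff.1 (h3.ge.trans inf_le_right)).trans h1)
  rw [← h4]
  exact ⟨⟨r, hr, he⟩, h1⟩

end Prim

/-- The stabiliser of the zero vector in an extremely primitive affine group. -/
structure XP (H V : Type*) [Group H] [AddCommGroup V] [DistribMulAction H V] : Prop where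
  coatom : ∀ v : V, v ≠ 0 → IsCoatom (stabilizer H v)
  irr : ∀ M : Subgroup H, M.Normal → M ≠ ⊥ → ∀ W : AddSubgroup V,
    (∀ m ∈ M, ∀ w ∈ W, m • w ∈ W) → W = ⊥ ∨ W = ⊤

universe u

theorem exists_XP {G : Type u} [Group G] [Finite G] {Ω : Type*} [Finite Ω] [MulAction G Ω]
    [FaithfulSMul G Ω] [IsPreprimitive G Ω] {N : Subgroup G} [hN : N.Normal] (hN0 : N ≠ ⊥)
    [IsMulCommutative N] (hreg : ∀ n ∈ N, ∀ x : Ω, n • x = x → n = 1) {α : Ω}
    (hH : stabilizer G α ≠ ⊥)
    (hep : ∀ ω : Ω, IsPreprimitive (stabilizer G α) (orbit (stabilizer G α) ω)) :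
    ∃ (V : Type u) (_ : AddCommGroup V) (_ : DistribMulAction (stabilizer G α) V) (e : V ≃ Ω),
      FaithfulSMul (stabilizer G α) V ∧ e 0 = α ∧
      (∀ (h : stabilizer G α) (v : V), e (h • v) = h • e v) ∧ XP (stabilizer G α) V := by
  let _ : CommGroup N := { (inferInstance : Group N) with mul_comm := mul_comm' }
  let c : stabilizer G α → N → N := fun k n => ⟨_, hN.conj_mem _ n.2 k⟩
  let _ : DistribMulAction (stabilizer G α) (Additive N) :=
    { smul := fun g v => .ofMul (c g v.toMul)
      one_smul := fun v => congrArg Additive.ofMul (Subtype.ext (by simp [c]; rfl))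
      mul_smul := fun g k v => congrArg Additive.ofMul (Subtype.ext (by
        change _ = (g : G) * (k * _ * (k : G)⁻¹) * (g : G)⁻¹; simp [c, mul_assoc]))
      smul_zero := fun g => congrArg Additive.ofMul (Subtype.ext (by simp [c]))
      smul_add := fun g v w => congrArg Additive.ofMul (Subtype.ext (by
        change _ = (g : G) * _ * (g : G)⁻¹ * (g * _ * (g : G)⁻¹); simp [c, mul_assoc])) }
  let e : Additive N ≃ Ω := Equiv.ofBijective (fun v => (v.toMul : G) • α) ⟨fun v w h => by
      have := hreg _ (mul_mem (inv_mem w.toMul.2) v.toMul.2) α (by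
        rw [mul_smul, inv_smul_eq_iff]; exact h)
      exact Subtype.ext (inv_mul_eq_one.1 this).symm, fun ω => by
      obtain ⟨n, hn, h⟩ := DerCls.transitive_of_normal N hN0 α ω
      exact ⟨.ofMul ⟨n, hn⟩, h⟩⟩
  have he : ∀ (h : stabilizer G α) (v : Additive N), e (h • v) = h • e v := fun h v => by
    change ((h : G) * v.toMul * (h : G)⁻¹) • α = (h : G) • (v.toMul : G) • α
    rw [mul_smul, mul_smul, show (h : G)⁻¹ • α = α from (h⁻¹).2]
  have he0 : e 0 = α := one_smul G α
  have hxp : XP (stabilizer G α) (Additive N) := by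
    refine ⟨fun v hv => ?_, fun M hM hM0 W hW => ?_⟩
    · have h1 : e v ≠ α := fun h => hv (e.injective (h.trans he0.symm))
      have := hep (e v)
      have : Nontrivial (orbit (stabilizer G α) (e v)) := by
        by_contra h
        rw [not_nontrivial_iff_subsingleton] at h
        refine h1 (Recog.eq_of_stabilizer_le hH fun g hg => ?_)
        exact congrArg Subtype.val (Subsingleton.elim
          (⟨_, mem_orbit _ (⟨g, hg⟩ : stabilizer G α)⟩ : orbit (stabilizer G α) (e v))
          ⟨_, mem_orbit_self _⟩)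
      have h2 := IsPreprimitive.isCoatom_stabilizer_of_isPreprimitive (stabilizer G α)
        (⟨_, mem_orbit_self _⟩ : orbit (stabilizer G α) (e v))
      convert h2 using 1
      ext g
      simp only [mem_stabilizer_iff]
      rw [← e.apply_eq_iff_eq, he, Subtype.ext_iff]
      rfl
    · have := Recog.irreducible_of_regular hep (N := N) (fun n hn => hreg n hn α)
        (M := M.map (stabilizer G α).subtype)
        (fun h => hM0 ((map_eq_bot_iff_of_injective _ (subtype_injective _)).1 h))
        (map_subtype_le _) (by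
          rw [le_normalizer_iff]
          rintro g hg _ ⟨m, hm, rfl⟩
          exact ⟨_, hM.conj_mem m hm ⟨g, hg⟩, rfl⟩) ((W.toSubgroup').map N.subtype)
        (map_subtype_le _) (by
          rw [le_normalizer_iff]
          rintro _ ⟨m, hm, rfl⟩ _ ⟨w, hw, rfl⟩
          exact ⟨c m w, hW m hm (.ofMul w) hw, rfl⟩)
      refine this.imp (fun h => ?_) fun h => ?_
      · refine eq_bot_iff.2 fun w hw => ?_
        have : (w.toMul : G) ∈ (W.toSubgroup').map N.subtype := ⟨w.toMul, hw, rfl⟩
        rw [h, mem_bot] at this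
        exact Subtype.ext this
      · refine eq_top_iff.2 fun w _ => ?_
        obtain ⟨u, hu, h1⟩ : (w.toMul : G) ∈ (W.toSubgroup').map N.subtype := by
          rw [h]; exact w.toMul.2
        obtain rfl : u = w.toMul := Subtype.ext h1
        exact hu
  refine ⟨Additive N, inferInstance, inferInstance, e, ⟨fun {g k} h => ?_⟩, he0, he, hxp⟩
  refine Subtype.ext (FaithfulSMul.eq_of_smul_eq_smul (α := Ω) fun ω => ?_)
  obtain ⟨v, rfl⟩ := e.surjective ω
  exact (he g _).symm.trans ((congrArg e (h v)).trans (he k _))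

theorem exists_ringAut_inj {K : Type*} [Field K] [Fintype K] {p d : ℕ} (hp : p.Prime)
    (h : Nat.card K = p ^ d) : IsCyclic (RingAut K) ∧ Nat.card (RingAut K) ∣ d := by
  have := Fact.mk hp
  obtain ⟨q, _, ⟨n, hn⟩, hq, hK⟩ := FiniteField.card' K
  rw [PNat.mk_coe, ← Nat.card_eq_fintype_card, h] at hK
  obtain rfl : q = p := (Nat.prime_dvd_prime_iff_eq hq hp).1
    (hq.dvd_of_dvd_pow (hK ▸ dvd_pow_self q hn.ne'))
  let _ := ZMod.algebra K q
  have h1 := Module.natCard_eq_pow_finrank (K := ZMod q) (V := K)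
  rw [h, Nat.card_zmod] at h1
  let φ : RingAut K →* (K ≃ₐ[ZMod q] K) :=
    { toFun := fun f => AlgEquiv.ofRingEquiv (f := f) fun x =>
        DFunLike.congr_fun (RingHom.ext_zmod (f.toRingHom.comp (algebraMap (ZMod q) K)) _) x
      map_one' := rfl
      map_mul' := fun _ _ => rfl }
  have hφ : Function.Injective φ := fun f g h => RingEquiv.ext fun x => DFunLike.congr_fun h x
  refine ⟨isCyclic_of_injective φ hφ, ?_⟩
  rw [Nat.pow_right_injective hp.two_le h1, ← IsGalois.card_aut_eq_finrank]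
  exact card_dvd_of_injective φ hφ

namespace XP

variable {H V : Type*} [Group H] [AddCommGroup V] [DistribMulAction H V] [FaithfulSMul H V]
  (x : XP H V)

/-- The vectors fixed by all elements of a set. -/
def fix (V : Type*) [AddCommGroup V] [DistribMulAction H V] (S : Set H) : AddSubgroup V where
  carrier := {v | ∀ s ∈ S, s • v = v}
  zero_mem' := fun s _ => smul_zero s
  add_mem' := fun ha hb s hs => by rw [smul_add, ha s hs, hb s hs]
  neg_mem' := fun ha s hs => by rw [smul_neg, ha s hs]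

theorem nontriv {M : Subgroup H} (hM : M ≠ ⊥) : Nontrivial V :=
  Recog.nontrivial_of_stabilizer_ne_bot hM

include x

theorem eq_zero_of_fix (M : Subgroup H) [hM : M.Normal] (hM0 : M ≠ ⊥) {v : V}
    (h : ∀ m ∈ M, m • v = v) : v = 0 := by
  rcases x.irr M hM hM0 (fix V (M : Set H)) (fun m hm w hw => by rw [hw m hm]; exact hw) with h1 | h1
  · exact AddSubgroup.mem_bot.1 (h1 ▸ h : v ∈ (⊥ : AddSubgroup V))
  · refine absurd (eq_bot_iff.2 fun m hm => mem_bot.2 (FaithfulSMul.eq_of_smul_eq_smul (α := V)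
      fun w => ?_)) hM0
    rw [one_smul]
    exact (h1 ▸ AddSubgroup.mem_top w : w ∈ fix V (M : Set H)) m hm

theorem exists_mem (M : Subgroup H) [hM : M.Normal] (hM0 : M ≠ ⊥) (v : V) (g : H) :
    ∃ m ∈ M, m • v = g • v := by
  by_cases hv : v = 0
  · exact ⟨1, one_mem _, by simp [hv]⟩
  have h1 : M ⊔ stabilizer H v = ⊤ := (x.coatom v hv).2 _ (lt_of_le_of_ne le_sup_right fun h =>
    hv (x.eq_zero_of_fix M hM0 fun m hm => (le_sup_left.trans h.ge : M ≤ stabilizer H v) hm))
  have h2 : g ∈ ((M ⊔ stabilizer H v : Subgroup H) : Set H) := by rw [h1]; trivial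
  rw [normal_mul] at h2
  obtain ⟨m, hm, s, hs, rfl⟩ := h2
  exact ⟨m, hm, by rw [mul_smul, show s • v = v from hs]⟩

theorem eq_one_of_fix (M : Subgroup H) [hM : M.Normal] (hM0 : M ≠ ⊥) {c : H}
    (hc : c ∈ centralizer (M : Set H)) {v : V} (hv : v ≠ 0) (h : c • v = v) : c = 1 := by
  rcases x.irr M hM hM0 (fix V {c}) (by
    rintro m hm w hw _ rfl
    rw [← mul_smul, ← mem_centralizer_iff.1 hc m hm, mul_smul, hw _ rfl]) with h1 | h1
  · refine absurd (AddSubgroup.mem_bot.1 (h1 ▸ ?_ : v ∈ (⊥ : AddSubgroup V))) hv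
    rintro _ rfl
    exact h
  · refine FaithfulSMul.eq_of_smul_eq_smul (α := V) fun w => ?_
    rw [one_smul]
    exact (h1 ▸ AddSubgroup.mem_top w : w ∈ fix V {c}) c rfl

theorem centralizer_le (A : Subgroup H) [A.Normal] (hA : A ≠ ⊥) [IsMulCommutative A] :
    centralizer (A : Set H) ≤ A := by
  intro c hc
  have := nontriv (V := V) hA
  obtain ⟨v, hv⟩ := exists_ne (0 : V)
  obtain ⟨a, ha, h⟩ := x.exists_mem A hA v c
  have := x.eq_one_of_fix A hA (mul_mem (inv_mem (le_centralizer A ha)) hc) hv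
    (by rw [mul_smul, ← h, inv_smul_smul])
  rwa [← inv_mul_eq_one.1 this]

theorem comm_of_le_centralizer [Finite V] (M : Subgroup H) [hM : M.Normal] (hM0 : M ≠ ⊥) {a b : H}
    (ha : a ∈ centralizer (M : Set H)) (hb : b ∈ centralizer (M : Set H)) : a * b = b * a := by
  have := nontriv (V := V) hM0
  have hF := isField_centralizer_end (DistribMulAction.toAddMonoidEnd H V '' M) fun W hW =>
    x.irr M hM hM0 W fun m hm w hw => hW _ ⟨m, hm, rfl⟩ w hw
  have key : ∀ c ∈ centralizer (M : Set H), DistribMulAction.toAddMonoidEnd H V c ∈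
      Subring.centralizer (DistribMulAction.toAddMonoidEnd H V '' M) := by
    rintro c hc _ ⟨n, hn, rfl⟩
    rw [← map_mul, ← map_mul, hc n hn]
  refine toAddMonoidEnd_injective (V := V) ?_
  rw [map_mul, map_mul]
  exact congrArg Subtype.val (hF.mul_comm ⟨_, key a ha⟩ ⟨_, key b hb⟩)

theorem exists_field [Finite V] (A : Subgroup H) [hA : A.Normal] (hA0 : A ≠ ⊥) [IsMulCommutative A] :
    ∃ (K : Type) (_ : Field K) (_ : Fintype K) (σ : H →* RingAut K) (ι : A →* Kˣ),
      Function.Injective ι ∧ σ.ker = A ∧ Nat.card K = Nat.card V ∧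
        ∀ S : Subring K, (∀ a, (ι a : K) ∈ S) → S = ⊤ := by
  have := nontriv (V := V) hA0
  have hfin : Finite (AddMonoid.End V) :=
    Finite.of_injective (fun f : AddMonoid.End V => (f : V → V)) DFunLike.coe_injective
  have hF : IsField (genRing V A) := isField_of_inj _ fun f hf v hv e => by
    by_contra h0
    refine hv (end_injective_of_mem_centralizer (DistribMulAction.toAddMonoidEnd H V '' A)
      (fun W hW => x.irr A hA hA0 W fun m hm w hw => hW _ ⟨m, hm, rfl⟩ w hw)
      (Subring.closure_le.2 ?_ hf) h0 (e.trans (map_zero f).symm))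
    rintro _ ⟨a, ha, rfl⟩ _ ⟨b, hb, rfl⟩
    rw [← map_mul, ← map_mul, setLike_mul_comm (s := A) hb ha]
  let _ := hF.toField
  let ε := Shrink.ringEquiv.{0} (genRing V A)
  let _ : Module (Shrink.{0} (genRing V A)) V := Module.compHom V ε.toRingHom
  have hsm : ∀ (c : Shrink.{0} (genRing V A)) (v : V), c • v = (ε c : AddMonoid.End V) v :=
    fun _ _ => rfl
  obtain ⟨σ, hσ⟩ := exists_ringAut_hom (G := H) (V := V) (K := Shrink.{0} (genRing V A)) fun g c => by
    obtain ⟨f, hf, h⟩ := exists_conj_genRing A g (ε c).2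
    exact ⟨ε.symm ⟨f, hf⟩, fun v => by rw [hsm, hsm, h, RingEquiv.apply_symm_apply]⟩
  let ι₀ : A →* genRing V A := ((DistribMulAction.toAddMonoidEnd H V).comp A.subtype).codRestrict
    (genRing V A) fun a => mem_genRing a.2
  have hι : ∀ (a : A) (v : V), (a : H) • v = ε.symm (ι₀ a) • v := fun a v => by
    rw [hsm, RingEquiv.apply_symm_apply]; rfl
  obtain ⟨v, hv⟩ := exists_ne (0 : V)
  have hS : ∀ S : Subring (Shrink.{0} (genRing V A)), (∀ a, ε.symm (ι₀ a) ∈ S) →
      ∀ w : V, ∃ c ∈ S, c • v = w := fun S hS w => by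
    rcases x.irr A hA hA0 (S.toAddSubgroup.map ((smulAddHom _ V).flip v)) (by
      rintro a ha _ ⟨c, hc, rfl⟩
      exact ⟨_, S.mul_mem (hS ⟨a, ha⟩) hc, (mul_smul _ c v).trans (hι ⟨a, ha⟩ _).symm⟩) with h | h
    · have : v ∈ S.toAddSubgroup.map ((smulAddHom _ V).flip v) := 
        ⟨1, S.one_mem, one_smul (Shrink.{0} (genRing V A)) v⟩
      rw [h] at this
      exact absurd this hv
    · exact (h ▸ AddSubgroup.mem_top w : w ∈ S.toAddSubgroup.map ((smulAddHom _ V).flip v))
  refine ⟨Shrink.{0} (genRing V A), inferInstance, Fintype.ofFinite _, σ,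
    (ε.symm.toMonoidHom.comp ι₀).toHomUnits, (injective_iff_map_eq_one _).2 fun a ha => ?_,
    le_antisymm (fun g hg => x.centralizer_le A hA0 fun a ha => ?_)
      fun g hg => RingEquiv.ext fun c => ?_, ?_, fun S h => eq_top_iff.2 fun c _ => ?_⟩
  · refine Subtype.ext (FaithfulSMul.eq_of_smul_eq_smul (α := V) fun w => ?_)
    rw [hι, show ε.symm (ι₀ a) = 1 from congrArg Units.val ha]
    simp
  · refine FaithfulSMul.eq_of_smul_eq_smul (α := V) fun v => ?_
    rw [mul_smul, mul_smul, hι ⟨a, ha⟩, hι ⟨a, ha⟩, hσ, hg]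
    rfl
  · refine smul_left_injective _ ((smul_ne_zero_iff_ne g).2 hv) ((hσ g c v).symm.trans ?_)
    have : genRing V A ≤ Subring.centralizer {DistribMulAction.toAddMonoidEnd H V g} := by
      refine Subring.closure_le.2 ?_
      rintro _ ⟨a, ha, rfl⟩ _ rfl
      rw [← map_mul, ← map_mul, setLike_mul_comm (s := A) hg ha]
    exact DFunLike.congr_fun (this (ε c).2 _ rfl) v
  · refine Nat.card_eq_of_bijective (fun c => c • v) ⟨smul_left_injective _ hv, fun w => ?_⟩
    obtain ⟨c, -, h⟩ := hS ⊤ (fun _ => trivial) w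
    exact ⟨c, h⟩
  · obtain ⟨d, hd, e⟩ := hS S h (c • v)
    rwa [← smul_left_injective _ hv e]

theorem solvable_of_comm [Finite V] (A : Subgroup H) [A.Normal] (hA0 : A ≠ ⊥) [IsMulCommutative A] :
    Group.IsSolvable H := by
  obtain ⟨K, _, _, σ, ι, -, hk, -, -⟩ := x.exists_field A hA0
  obtain ⟨q, _, n, hq, hK⟩ := FiniteField.card' K
  have := (exists_ringAut_inj hq (Nat.card_eq_fintype_card.trans hK)).1
  have : Group.IsSolvable (RingAut K) := Group.isSolvable_of_comm fun a b => mul_comm' a b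
  have : Group.IsSolvable A := Group.isSolvable_of_comm fun a b => mul_comm' a b
  exact Group.isSolvable_of_ker_le_range A.subtype σ (by rw [hk, range_subtype])

theorem char_two [Finite H] (hns : ¬ Group.IsSolvable H) (w : V) : w + w = 0 := by
  have := Fact.mk Nat.prime_two
  obtain ⟨t, ht⟩ := exists_prime_orderOf_dvd_card' 2 (FT.even_card_of_not_solvable hns).two_dvd
  have ht1 := DerCls.ne_one_of_orderOf Nat.prime_two ht
  have ht2 : t * t = 1 := by rw [← pow_two, ← ht, pow_orderOf_eq_one]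
  obtain ⟨u, hu⟩ : ∃ u : V, t • u ≠ u := by
    by_contra h
    push Not at h
    exact ht1 (FaithfulSMul.eq_of_smul_eq_smul (α := V) fun u => by rw [h, one_smul])
  obtain ⟨v, hv0, hv⟩ : ∃ v : V, v ≠ 0 ∧ t • v = -v :=
    ⟨t • u - u, sub_ne_zero.2 hu, by rw [smul_sub, ← mul_smul, ht2, one_smul, neg_sub]⟩
  by_cases h2 : v + v = 0
  · rcases x.irr ⊤ inferInstance (fun h => ht1 (mem_bot.1 (h ▸ mem_top t)))
      (nsmulAddMonoidHom 2 : V →+ V).ker (fun m _ y hy => by
        change 2 • m • y = 0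
        rw [smul_comm, show 2 • y = 0 from hy, smul_zero]) with h | h
    · have : v ∈ (nsmulAddMonoidHom 2 : V →+ V).ker := (two_nsmul v).trans h2
      rw [h] at this
      exact absurd this hv0
    · exact (two_nsmul w).symm.trans (h ▸ AddSubgroup.mem_top w : w ∈ (nsmulAddMonoidHom 2 : V →+ V).ker)
  exfalso
  let S : Subgroup H :=
    { carrier := {h | h • v = v ∨ h • v = -v}
      one_mem' := Or.inl (one_smul _ _)
      mul_mem' := by
        rintro a b (ha | ha) (hb | hb) <;> simp [mul_smul, ha, hb]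
      inv_mem' := by
        rintro a (ha | ha)
        · exact Or.inl (inv_smul_eq_iff.2 ha.symm)
        · exact Or.inr (inv_smul_eq_iff.2 (by rw [smul_neg, ha, neg_neg])) }
  have hS : S = ⊤ := (x.coatom v hv0).2 _ (lt_of_le_of_ne (fun g hg => Or.inl hg) fun h =>
    h2 (by
      have : t • v = v := (h ▸ Or.inr hv : t ∈ stabilizer H v)
      rw [hv] at this
      exact neg_eq_iff_add_eq_zero.1 this))
  have hS' : ∀ g : H, g • v = v ∨ g • v = -v := fun g => (hS ▸ mem_top g : g ∈ S)
  have hn : (stabilizer H v).Normal := ⟨fun s hs g => by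
    have hs' : s • v = v := hs
    rw [mem_stabilizer_iff, mul_smul, mul_smul, smul_eq_iff_eq_inv_smul]
    rcases hS' g⁻¹ with h | h <;> simp [h, hs']⟩
  have h0 : stabilizer H v = ⊥ := by
    by_contra h
    exact hv0 (x.eq_zero_of_fix _ h fun m hm => hm)
  refine hns (Group.isSolvable_of_comm fun a b => ?_)
  have : (b * a)⁻¹ * (a * b) ∈ stabilizer H v := by
    rw [mem_stabilizer_iff, mul_smul, inv_smul_eq_iff]
    rcases hS' a with h | h <;> rcases hS' b with h' | h' <;> simp [mul_smul, h, h']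
  rw [h0, mem_bot] at this
  exact (inv_mul_eq_one.1 this).symm

end XP

end CfsgLib.XPrim
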